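import Mathlib
import Cfsg.Agent.Lib.Helper41.CS3.GoodDefs
import Cfsg.Agent.Lib.Helper71.CS3.Basics5
import Cfsg.Agent.S4134

/-!
# CS3 (S4284), part GOOD: package [ITO]

If `C(a) = Sa × N` (`Dec`) and `N` is not abelian, Ito's theorem (S4134) on the type `↥N`
gives `C(a) = Sa × T × B` (`Bad`).
-/

set_option autoImplicit false

namespace Cfsg.Agent.Lib.Helper73.CS3

universe u

open Cfsg.Agent.Lib.Helper41.CS3 Cfsg.Agent.Lib.Helper81.CS3

theorem card_inf_mul_relIndex_h73 {G : Type u} [Group G] [Finite G] (H K : Subgroup G) :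
    Nat.card (H ⊓ K : Subgroup G) * H.relIndex K = Nat.card K := by
  have h := Subgroup.relIndex_mul_relIndex (⊥ : Subgroup G) (H ⊓ K) K bot_le inf_le_right
  rw [Subgroup.relIndex_bot_left, Subgroup.relIndex_bot_left, Subgroup.inf_relIndex_right] at h
  exact h

theorem pkgIto : PkgIto.{u} := by
  intro G _ _ m n hyp s a Sa N hgood hdec hnab
  classical
  have hn1 : 1 < n := hyp.2.2.1
  have hcop : m.Coprime n := hyp.2.2.2.1
  -- class sizes of ↥N
  have hrel : ∀ y ∈ N, (Cn y).relIndex N = 1 ∨ (Cn y).relIndex N = n := by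
    intro y hy
    have hc := card_inf_mul_relIndex_h73 (Cn y) N
    have hpos : 0 < Nat.card (Cn y ⊓ N : Subgroup G) := Nat.card_pos
    rcases hdec.cls y hy with h | h
    · left
      have h2 : Nat.card (Cn y ⊓ N : Subgroup G) * (Cn y).relIndex N
          = Nat.card (Cn y ⊓ N : Subgroup G) * 1 := by rw [hc, mul_one, h]
      exact Nat.eq_of_mul_eq_mul_left hpos h2
    · right
      have h2 : Nat.card (Cn y ⊓ N : Subgroup G) * (Cn y).relIndex N
          = Nat.card (Cn y ⊓ N : Subgroup G) * n := by rw [hc, h, mul_comm]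
      exact Nat.eq_of_mul_eq_mul_left hpos h2
  have hcls : ∀ x : ↥N, (Subgroup.centralizer ({x} : Set ↥N)).index = 1 ∨
      (Subgroup.centralizer ({x} : Set ↥N)).index = n := by
    intro x
    rw [Cfsg.Agent.Lib.Helper71.CS3.idx_subtype]
    exact hrel x.1 x.2
  have hex : ∃ x : ↥N, (Subgroup.centralizer ({x} : Set ↥N)).index = n := by
    by_contra hno
    apply hnab
    intro x hx y hy
    have h1 : (Subgroup.centralizer ({(⟨x, hx⟩ : ↥N)} : Set ↥N)).index = 1 := by
      rcases hcls ⟨x, hx⟩ with h | h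
      · exact h
      · exact absurd ⟨_, h⟩ hno
    rw [Subgroup.index_eq_one] at h1
    have hmem : (⟨y, hy⟩ : ↥N) ∈ Subgroup.centralizer ({(⟨x, hx⟩ : ↥N)} : Set ↥N) := by
      rw [h1]; trivial
    rw [Subgroup.mem_centralizer_iff] at hmem
    have h2 := hmem ⟨x, hx⟩ rfl
    exact congrArg Subtype.val h2
  obtain ⟨t, ht, k, hnk, hall⟩ := Cfsg.Agent.S4134.result (G := ↥N) n hn1 hcls hex
  have htp : t.Prime := ht.out
  obtain ⟨P⟩ : Nonempty (Sylow t ↥N) := inferInstance
  obtain ⟨hPn, ⟨N', hN'n, hcompl, hN'ab, hN'P⟩, -⟩ := hall P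
  let T : Subgroup G := (P : Subgroup ↥N).map N.subtype
  let B : Subgroup G := N'.map N.subtype
  have hTN : T ≤ N := Subgroup.map_subtype_le _
  have hBN : B ≤ N := Subgroup.map_subtype_le _
  have hcardT : Nat.card T = Nat.card (P : Subgroup ↥N) :=
    Subgroup.card_map_of_injective N.subtype_injective
  have hcardB : Nat.card B = Nat.card N' :=
    Subgroup.card_map_of_injective N.subtype_injective
  have hcardN : Nat.card N = Nat.card B * Nat.card T := by
    rw [hcardT, hcardB]; exact hcompl.card_mul_card.symm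
  have hdecomp : ∀ g ∈ N, ∃ b ∈ B, ∃ x ∈ T, g = b * x := by
    intro g hg
    obtain ⟨⟨b, x⟩, hbx⟩ := (Subgroup.isComplement'_def.mp hcompl).2 ⟨g, hg⟩
    refine ⟨b.1.1, ⟨b.1, b.2, rfl⟩, x.1.1, ⟨x.1, x.2, rfl⟩, ?_⟩
    exact (congrArg Subtype.val hbx).symm
  have hpT : IsPGroup t T := P.isPGroup'.map N.subtype
  have hTB : Comm T B := by
    rintro x ⟨x', hx', rfl⟩ y ⟨y', hy', rfl⟩
    have h1 := hN'P y' hy' x' hx'
    exact (congrArg Subtype.val h1).symm
  have hBab : Ab B := by
    rintro x ⟨x', hx', rfl⟩ y ⟨y', hy', rfl⟩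
    have h1 : (⟨x', hx'⟩ : ↥N') * ⟨y', hy'⟩ = ⟨y', hy'⟩ * ⟨x', hx'⟩ := mul_comm' _ _
    have h2 : x' * y' = y' * x' := congrArg Subtype.val h1
    exact congrArg Subtype.val h2
  have hcopB : (Nat.card B).Coprime t := by
    rw [hcardB]
    have h1 : (P : Subgroup ↥N).index = Nat.card N' := hcompl.index_eq_card
    have h2 : ¬ t ∣ (P : Subgroup ↥N).index := P.not_dvd_index
    rw [h1] at h2
    exact ((Nat.Prime.coprime_iff_not_dvd htp).mpr h2).symm
  have hcopBs : (Nat.card B).Coprime s :=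
    Nat.Coprime.coprime_dvd_left (Subgroup.card_dvd_of_le hBN) hdec.cop
  have hinfTB : ∀ x ∈ T, x ∈ B → x = 1 := by
    intro x hxT hxB
    obtain ⟨j, hj⟩ := hpT ⟨x, hxT⟩
    have h1 : x ^ (t ^ j) = 1 := congrArg Subtype.val hj
    have h2 : orderOf x ∣ t ^ j := orderOf_dvd_of_pow_eq_one h1
    have h3 : orderOf x ∣ Nat.card B := Subgroup.orderOf_dvd_natCard B hxB
    have h4 : (t ^ j).Coprime (Nat.card B) := Nat.Coprime.pow_left j hcopB.symm
    have h5 : orderOf x ∣ 1 := by
      have h6 := Nat.dvd_gcd h2 h3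
      rwa [Nat.Coprime.gcd_eq_one h4] at h6
    exact orderOf_eq_one_iff.mp (Nat.dvd_one.mp h5)
  have hTBN : T ⊔ B = N := by
    apply le_antisymm (sup_le hTN hBN)
    intro g hg
    obtain ⟨b, hb, x, hx, rfl⟩ := hdecomp g hg
    exact mul_mem (Subgroup.mem_sup_right hb) (Subgroup.mem_sup_left hx)
  have hsup : Sa ⊔ T ⊔ B = Cn a := by rw [sup_assoc, hTBN]; exact hdec.sup
  have htn : t ∣ n := by
    rw [hnk]
    have hk0 : k ≠ 0 := by
      rintro rfl
      rw [pow_zero] at hnk
      omega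
    exact dvd_pow_self t hk0
  have htm : ¬ t ∣ m := by
    intro h
    have h1 := Nat.dvd_gcd h htn
    rw [Nat.Coprime.gcd_eq_one hcop] at h1
    exact htp.one_lt.ne' (Nat.dvd_one.mp h1)
  have hCdvd : Nat.card (Cn a) ∣ Nat.card Sa * Nat.card N := by
    have hcomm : ∀ (x : ↥Sa) (y : ↥N), Commute (Sa.subtype x) (N.subtype y) :=
      fun x y => hdec.comm x.1 x.2 y.1 y.2
    have h := Subgroup.card_range_dvd (MonoidHom.noncommCoprod Sa.subtype N.subtype hcomm)
    rw [MonoidHom.noncommCoprod_range, Subgroup.range_subtype, Subgroup.range_subtype, hdec.sup,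
      Nat.card_prod] at h
    exact h
  have hsyl : ¬ t ∣ T.index := by
    intro hdvd
    have : Fact s.Prime := ⟨hgood.sp⟩
    have hG1 : Nat.card T * T.index = Nat.card G := T.card_mul_index
    have hG2 : Nat.card (Cn a) * m = Nat.card G := by
      have h0 := (Cn a).card_mul_index
      rwa [show (Cn a).index = m from hgood.ixa] at h0
    obtain ⟨j, hj⟩ := IsPGroup.iff_card.mp hdec.pS
    have h3 : T.index * Nat.card T ∣ (s ^ j * Nat.card B * m) * Nat.card T := by
      have h0 : Nat.card (Cn a) * m ∣ (Nat.card Sa * Nat.card N) * m := Nat.mul_dvd_mul_right hCdvd m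
      rw [hG2, ← hG1, hj, hcardN] at h0
      have e : s ^ j * (Nat.card B * Nat.card T) * m = (s ^ j * Nat.card B * m) * Nat.card T := by
        ring
      rw [e, mul_comm (Nat.card T)] at h0
      exact h0
    have h4 : T.index ∣ s ^ j * Nat.card B * m := Nat.dvd_of_mul_dvd_mul_right Nat.card_pos h3
    have h5 : t ∣ s ^ j * Nat.card B * m := dvd_trans hdvd h4
    rcases (Nat.Prime.dvd_mul htp).mp h5 with h6 | h6
    · rcases (Nat.Prime.dvd_mul htp).mp h6 with h7 | h7
      · have h8 := htp.dvd_of_dvd_pow h7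
        have hts : t = s := (Nat.prime_dvd_prime_iff_eq htp hgood.sp).mp h8
        exact htm (hts ▸ hgood.sm)
      · exact (Nat.Prime.coprime_iff_not_dvd htp).mp hcopB.symm h7
    · exact htm h6
  have hnabT : ¬ Ab T := by
    intro hTab
    apply hnab
    have hT1 : T ≤ Subgroup.centralizer (N : Set G) := by
      intro x hx
      rw [Subgroup.mem_centralizer_iff]
      intro g hg
      obtain ⟨b, hb, x', hx', rfl⟩ := hdecomp g hg
      have e1 : x * b = b * x := hTB x hx b hb
      have e2 : x' * x = x * x' := hTab x' hx' x hx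
      calc b * x' * x = b * (x' * x) := mul_assoc _ _ _
        _ = b * (x * x') := by rw [e2]
        _ = (b * x) * x' := (mul_assoc _ _ _).symm
        _ = (x * b) * x' := by rw [e1]
        _ = x * (b * x') := mul_assoc _ _ _
    have hB1 : B ≤ Subgroup.centralizer (N : Set G) := by
      intro y hy
      rw [Subgroup.mem_centralizer_iff]
      intro g hg
      obtain ⟨b, hb, x', hx', rfl⟩ := hdecomp g hg
      have e1 : x' * y = y * x' := hTB x' hx' y hy
      have e2 : b * y = y * b := hBab b hb y hy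
      calc b * x' * y = b * (x' * y) := mul_assoc _ _ _
        _ = b * (y * x') := by rw [e1]
        _ = (b * y) * x' := (mul_assoc _ _ _).symm
        _ = (y * b) * x' := by rw [e2]
        _ = y * (b * x') := mul_assoc _ _ _
    have h1 : T ⊔ B ≤ Subgroup.centralizer (N : Set G) := sup_le hT1 hB1
    intro x hx y hy
    have hy' : y ∈ T ⊔ B := by rw [hTBN]; exact hy
    exact Subgroup.mem_centralizer_iff.mp (h1 hy') x hx
  have hclsT : ∀ y ∈ T, (∃ z ∈ T, y * z ≠ z * y) →
      Nat.card T = n * Nat.card (Cn y ⊓ T : Subgroup G) := by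
    rintro y hy ⟨z, hz, hyz⟩
    have hyN : y ∈ N := hTN hy
    have hNc : Nat.card N = n * Nat.card (Cn y ⊓ N : Subgroup G) := by
      rcases hdec.cls y hyN with h | h
      · exfalso
        have hle : (Cn y ⊓ N : Subgroup G) = N :=
          Subgroup.eq_of_le_of_card_ge inf_le_right h.le
        have hzC : z ∈ Cn y := by
          have h0 : z ∈ (Cn y ⊓ N : Subgroup G) := by rw [hle]; exact hTN hz
          exact h0.1
        exact hyz (Subgroup.mem_centralizer_iff.mp hzC y rfl)
      · exact h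
    have hBC : B ≤ Cn y := by
      intro b hb
      rw [Subgroup.mem_centralizer_iff]
      intro h hh
      rw [Set.mem_singleton_iff] at hh
      rw [hh]
      exact hTB y hy b hb
    have hcard : Nat.card (Cn y ⊓ N : Subgroup G)
        = Nat.card (Cn y ⊓ T : Subgroup G) * Nat.card B := by
      rw [← Nat.card_prod]
      symm
      apply Nat.card_eq_of_bijective (fun p : ↥(Cn y ⊓ T : Subgroup G) × ↥B =>
        (⟨p.1.1 * p.2.1, ⟨mul_mem p.1.2.1 (hBC p.2.2), mul_mem (hTN p.1.2.2) (hBN p.2.2)⟩⟩ :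
          ↥(Cn y ⊓ N : Subgroup G)))
      constructor
      · rintro ⟨⟨x1, hx1⟩, ⟨b1, hb1⟩⟩ ⟨⟨x2, hx2⟩, ⟨b2, hb2⟩⟩ h
        have h' : x1 * b1 = x2 * b2 := congrArg Subtype.val h
        have hmemT : x2⁻¹ * x1 ∈ T := mul_mem (inv_mem hx2.2) hx1.2
        have hmemB : x2⁻¹ * x1 ∈ B := by
          have e : x2⁻¹ * x1 = b2 * b1⁻¹ := by
            rw [eq_mul_inv_iff_mul_eq, mul_assoc, h', ← mul_assoc, inv_mul_cancel, one_mul]
          rw [e]; exact mul_mem hb2 (inv_mem hb1)
        have h1 := hinfTB _ hmemT hmemB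
        have hx : x1 = x2 := by
          have h2 := congrArg (fun w => x2 * w) h1
          simpa using h2
        subst hx
        have hb : b1 = b2 := mul_left_cancel h'
        subst hb
        rfl
      · rintro ⟨g, hgC, hgN⟩
        obtain ⟨b, hb, x, hx, rfl⟩ := hdecomp g hgN
        have hxb : x * b = b * x := hTB x hx b hb
        have hxC : x ∈ Cn y := by
          have e : x = b⁻¹ * (b * x) := by group
          rw [e]; exact mul_mem (inv_mem (hBC hb)) hgC
        exact ⟨(⟨x, hxC, hx⟩, ⟨b, hb⟩), Subtype.ext hxb⟩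
    have h1 : Nat.card T * Nat.card B = (n * Nat.card (Cn y ⊓ T : Subgroup G)) * Nat.card B := by
      rw [mul_comm (Nat.card T), ← hcardN, hNc, hcard, mul_assoc]
    exact Nat.eq_of_mul_eq_mul_right Nat.card_pos h1
  exact ⟨t, T, B, ⟨htp, ⟨k, hnk⟩, fun x hx y hy => hdec.comm x hx y (hTN hy),
    fun x hx y hy => hdec.comm x hx y (hBN hy), hTB, hBab, hsup, hdec.pS, hpT, hcopB, hcopBs,
    hsyl, hnabT, hclsT⟩⟩

end Cfsg.Agent.Lib.Helper73.CS3
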